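import Groth.Agent.H23Par.Flag

/-!
# Exactness of the complex of permutation modules on standard parabolics
-/

set_option autoImplicit false
universe u v

open Matrix W4c3dlvarstrsh

namespace Groth.Agent.H23Par

variable {F : Type u} [Field F] [Fintype F] {R : Type v} [CommRing R] {m r : ℕ} (ω : Fin r ↪ Fin m)

local notation "G" => GL (Fin (m + 1)) F

theorem map_mono {T T' : Finset (Fin r)} (h : T ⊆ T') :
    parabolic F (T.map ω) ≤ parabolic F (T'.map ω) := parabolic_mono (Finset.map_subset_map.2 h)

theorem sgn_sq (T : Finset (Fin r)) (a : Fin r) : (sgn T a : R) * sgn T a = 1 := by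
  rw [← Int.cast_mul, sgn, ← mul_pow]
  simp

theorem sgn_swap {T : Finset (Fin r)} {a b : Fin r} (hab : a ≠ b) (ha : a ∉ T) (hb : b ∉ T) :
    (sgn T a : R) * sgn (insert a T) b + (sgn T b : R) * sgn (insert b T) a = 0 := by
  have key : ∀ {a b : Fin r}, a < b → a ∉ T →
      (sgn T a : R) * sgn (insert a T) b + (sgn T b : R) * sgn (insert b T) a = 0 := by
    intro a b h ha
    have h1 : (insert a T).filter (· < b) = insert a (T.filter (· < b)) := by
      rw [Finset.filter_insert, if_pos h]
    have h2 : (insert b T).filter (· < a) = T.filter (· < a) := by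
      rw [Finset.filter_insert, if_neg (lt_asymm h)]
    simp only [sgn, h1, h2, Finset.card_insert_of_notMem (fun hm => ha (Finset.mem_of_mem_filter _ hm))]
    push_cast
    ring
  rcases lt_or_gt_of_ne hab with h | h
  · exact key h ha
  · rw [add_comm]; exact key h hb

theorem delta_delta (c : ℕ) (g : Cochain F R (m := m) r (c + 2)) : delta c (delta (c + 1) g) = 0 := by
  classical
  funext T z
  simp only [delta, Pi.zero_apply]
  let f : Fin r × Fin r → R := fun p =>
    if h : p.1 ∉ T.1 ∧ p.2 ∉ insert p.1 T.1 then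
      (sgn T.1 p.1 : R) * ((sgn (insert p.1 T.1) p.2 : R) * g ⟨insert p.2 (insert p.1 T.1), by
        rw [Finset.card_insert_of_notMem h.2, Finset.card_insert_of_notMem h.1, T.2]⟩ z)
    else 0
  have h1 : ∑ a : Fin r, ∑ b : Fin r, f (a, b) = 0 := by
    rw [← Fintype.sum_prod_type']
    refine Finset.sum_involution (fun p _ => (p.2, p.1)) (fun p _ => ?_) (fun p _ hp => ?_)
      (fun _ _ => Finset.mem_univ _) (fun p _ => rfl)
    · obtain ⟨a, b⟩ := p
      show f (a, b) + f (b, a) = 0
      simp only [f]
      by_cases h : a ∉ T.1 ∧ b ∉ insert a T.1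
      · obtain ⟨ha, hb⟩ := h
        rw [Finset.mem_insert, not_or] at hb
        rw [dif_pos ⟨ha, by simp [hb.1, hb.2]⟩, dif_pos ⟨hb.2, by simp [Ne.symm hb.1, ha]⟩]
        simp only [Finset.insert_comm a b]
        linear_combination (g ⟨insert b (insert a T.1), by
          rw [Finset.card_insert_of_notMem (by simp [hb.1, hb.2]), Finset.card_insert_of_notMem ha, T.2]⟩ z) *
            sgn_swap (R := R) (Ne.symm hb.1) ha hb.2
      · have h' : ¬(b ∉ T.1 ∧ a ∉ insert b T.1) := by
          simp only [Finset.mem_insert, not_or] at h ⊢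
          exact fun h' => h ⟨h'.2.2, fun e => h'.2.1 e.symm, h'.1⟩
        rw [dif_neg h, dif_neg h', add_zero]
    · intro h
      obtain ⟨a, b⟩ := p
      simp only [Prod.mk.injEq] at h
      refine hp (dif_neg fun hh => hh.2 ?_)
      show b ∈ insert a T.1
      rw [h.1]
      exact Finset.mem_insert_self _ _
  refine Eq.trans ?_ h1
  refine Finset.sum_congr rfl fun a _ => ?_
  by_cases ha : a ∈ T.1
  · rw [dif_neg (not_not.2 ha)]
    exact (Finset.sum_eq_zero fun b _ => dif_neg fun h => h.1 ha).symm
  · rw [dif_pos ha, Finset.mul_sum]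
    refine Finset.sum_congr rfl fun b _ => ?_
    by_cases hb : b ∈ insert a T.1
    · rw [dif_neg (not_not.2 hb), mul_zero]
      simp only [f]
      rw [dif_neg (fun h : a ∉ T.1 ∧ b ∉ insert a T.1 => h.2 hb)]
    · simp only [f, dif_pos (And.intro ha hb), dif_pos hb]

theorem delta_sub (c : ℕ) (f g : Cochain F R (m := m) r (c + 1)) (T) (z : G) :
    delta c (fun T z => f T z - g T z) T z = delta c f T z - delta c g T z := by
  simp only [delta, ← Finset.sum_sub_distrib]
  refine Finset.sum_congr rfl fun a _ => ?_
  split_ifs <;> simp [mul_sub]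

theorem delta_induced {c : ℕ} {g : Cochain F R (m := m) r (c + 1)} (hg : IsInduced ω g) :
    IsInduced ω (delta c g) := by
  intro T z p hp
  refine Finset.sum_congr rfl fun a _ => ?_
  by_cases h : a ∉ T.1
  · rw [dif_pos h, dif_pos h, hg ⟨insert a T.1, _⟩ z p (map_mono ω (Finset.subset_insert a T.1) hp)]
  · rw [dif_neg h, dif_neg h]

open scoped Classical in
/-- The letters whose reflections satisfy the condition at `y`. -/
noncomputable def good (y : G) : Finset (Fin r) := Finset.univ.filter fun a => Step y (ω a)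

theorem subset_good_iff {T : Finset (Fin r)} {y : G} :
    T ⊆ good ω y ↔ ∀ k ∈ T.map ω, Step y k := by
  simp [good, Finset.subset_iff]

theorem good_borel (y : G) {b : G} (hb : b ∈ parabolic F (∅ : Finset (Fin m))) :
    good ω (y * b) = good ω y := by
  classical
  ext a
  simp [good, (ν_eq_of_borel (g := y) hb).2]

open scoped Classical in
/-- The homotopy at a single point. -/
noncomputable def hom {c : ℕ} (f : Cochain F R (m := m) r (c + 1)) (y : G)
    (U : {U : Finset (Fin r) // U.card = c + 2}) : R :=
  if h : (good ω y).Nonempty then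
    if h' : U.1 ⊆ good ω y ∧ (good ω y).min' h ∈ U.1 then
      (sgn (U.1.erase ((good ω y).min' h)) ((good ω y).min' h) : R) *
        f ⟨U.1.erase ((good ω y).min' h), by rw [Finset.card_erase_of_mem h'.2, U.2]; rfl⟩ y
    else 0
  else 0

theorem hom_borel {c : ℕ} {f : Cochain F R (m := m) r (c + 1)} (hf : IsInduced ω f) (y : G) {b : G}
    (hb : b ∈ parabolic F (∅ : Finset (Fin m))) (U : {U : Finset (Fin r) // U.card = c + 2}) :
    hom ω f (y * b) U = hom ω f y U := by
  classical
  simp only [hom, good_borel ω y hb]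
  split_ifs
  · congr 1
    exact hf _ y b (parabolic_mono (Finset.empty_subset _) hb)
  · rfl
  · rfl

open scoped Classical in
/-- The correction at defect `n`. -/
noncomputable def corr {c : ℕ} (f : Cochain F R (m := m) r (c + 1)) (n : ℕ) :
    Cochain F R (m := m) r (c + 2) := fun U z =>
  if ν (κ (U.1.map ω) z) = n then hom ω f (κ (U.1.map ω) z) U else 0

theorem corr_induced {c : ℕ} {f : Cochain F R (m := m) r (c + 1)} (hf : IsInduced ω f) (n : ℕ) :
    IsInduced ω (corr ω f n) := by
  intro U z p hp
  have hb := κ_congr (U.1.map ω) z hp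
  have h : κ (U.1.map ω) (z * p) = κ (U.1.map ω) z * ((κ (U.1.map ω) z)⁻¹ * κ (U.1.map ω) (z * p)) :=
    (mul_inv_cancel_left _ _).symm
  simp only [corr]
  rw [h, (ν_eq_of_borel hb).1, hom_borel ω hf _ hb]

theorem exists_bound : ∀ z : G, ν z < (m + 2) * ((m + 2) * (m + 1)) + 1 := fun z => by
  refine Nat.lt_succ_of_le ?_
  refine (Finset.sum_le_card_nsmul _ _ _ fun t _ => Finset.sum_le_card_nsmul _ _ (m + 1) fun a _ =>
    Nat.sub_le _ _).trans ?_
  simp

theorem exact_aux (c : ℕ) (n : ℕ) : ∀ f : Cochain F R (m := m) r (c + 1), IsInduced ω f → delta c f = 0 →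
    ∃ g : Cochain F R (m := m) r (c + 2), IsInduced ω g ∧
      ∀ T z, ν z < n → delta (c + 1) g T z = f T z := by
  classical
  induction n with
  | zero => exact fun f _ _ => ⟨0, fun _ _ _ _ => rfl, fun _ _ h => absurd h (Nat.not_lt_zero _)⟩
  | succ n ih =>
    intro f hf hd
    obtain ⟨g, hg, hgn⟩ := ih f hf hd
    let f' : Cochain F R (m := m) r (c + 1) := fun T z => f T z - delta (c + 1) g T z
    have hf' : IsInduced ω f' := fun T z p hp => by
      simp only [f']
      rw [hf T z p hp, delta_induced ω hg T z p hp]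
    have hd' : ∀ T z, delta c f' T z = 0 := by
      intro T z
      rw [show f' = fun T z => f T z - delta (c + 1) g T z from rfl, delta_sub, hd, delta_delta]
      simp
    have hlow : ∀ T z, ν z < n → f' T z = 0 := fun T z hz => by simp only [f', hgn T z hz, sub_self]
    refine ⟨g + corr ω f' n, fun T z p hp => ?_, fun T z hz => ?_⟩
    · simp only [Pi.add_apply, hg T z p hp, corr_induced ω hf' n T z p hp]
    have hadd : delta (c + 1) (g + corr ω f' n) T z = delta (c + 1) g T z + delta (c + 1) (corr ω f' n) T z := by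
      simp only [delta, ← Finset.sum_add_distrib]
      refine Finset.sum_congr rfl fun a _ => ?_
      split_ifs <;> simp [mul_add]
    rw [hadd]
    suffices h : delta (c + 1) (corr ω f' n) T z = f' T z by rw [h]; simp [f']
    rcases (Nat.lt_succ_iff.1 hz).lt_or_eq with hzn | hzn
    · rw [hlow T z hzn]
      refine Finset.sum_eq_zero fun a _ => ?_
      by_cases ha : a ∉ T.1
      · rw [dif_pos ha]
        simp only [corr]
        rw [if_neg (ne_of_lt ((κ_le _ z).trans_lt hzn)), mul_zero]
      · rw [dif_neg ha]
    -- the local computation at defect `n`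
    have hcorr : ∀ U, corr ω f' n U z = hom ω f' z U := by
      intro U
      by_cases hU : U.1 ⊆ good ω z
      · have hb := κ_of_steps ((subset_good_iff ω).1 hU)
        rw [corr, ← mul_inv_cancel_left z (κ (U.1.map ω) z), (ν_eq_of_borel hb).1, if_pos hzn,
          hom_borel ω hf' _ hb]
      · rw [corr, if_neg (ne_of_lt ((κ_lt (fun h => hU ((subset_good_iff ω).2 h))).trans_eq hzn)), hom]
        split_ifs with h h'
        · exact absurd h'.1 hU
        · rfl
        · rfl
    have hout : ∀ (T : {T : Finset (Fin r) // T.card = c + 1}), ¬ T.1 ⊆ good ω z → f' T z = 0 := by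
      intro T hT
      have hlt := κ_lt (fun h => hT ((subset_good_iff ω).2 h)) (g := z)
      have := hf' T z _ (κ_mem (T.1.map ω) z)
      rw [mul_inv_cancel_left, hlow T _ (hlt.trans_eq hzn)] at this
      exact this.symm
    simp only [delta, hcorr]
    by_cases hT : T.1 ⊆ good ω z
    swap
    · rw [hout T hT]
      refine Finset.sum_eq_zero fun a _ => ?_
      by_cases ha : a ∉ T.1
      · rw [dif_pos ha]
        simp only [hom]
        split_ifs with h h'
        · exact absurd ((Finset.subset_insert a T.1).trans h'.1) hT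
        · rw [mul_zero]
        · rw [mul_zero]
      · rw [dif_neg ha]
    have hne : (good ω z).Nonempty := (Finset.card_pos.1 (by omega : 0 < T.1.card)).mono hT
    set a₀ := (good ω z).min' hne with ha₀
    have ha₀g : a₀ ∈ good ω z := Finset.min'_mem _ hne
    simp only [hom, dif_pos hne, ← ha₀]
    by_cases h0 : a₀ ∈ T.1
    swap
    · rw [Finset.sum_eq_single a₀]
      · rw [dif_pos h0, dif_pos ⟨Finset.insert_subset ha₀g hT, Finset.mem_insert_self _ _⟩]
        simp only [Finset.erase_insert h0, ← mul_assoc, sgn_sq, one_mul]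
      · intro a _ ha
        by_cases h : a ∉ T.1
        · rw [dif_pos h, dif_neg fun h' => h0 ((Finset.mem_insert.1 h'.2).resolve_left (Ne.symm ha)), mul_zero]
        · rw [dif_neg h]
      · simp
    · let T' : {T : Finset (Fin r) // T.card = c} :=
        ⟨T.1.erase a₀, by rw [Finset.card_erase_of_mem h0, T.2]; rfl⟩
      have hco := hd' T' z
      simp only [delta] at hco
      rw [Finset.sum_eq_add_sum_sdiff_singleton_of_mem (Finset.mem_univ a₀)] at hco
      rw [dif_pos (by simp [T'])] at hco
      simp only [T', Finset.insert_erase h0] at hco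
      rw [Finset.sum_eq_add_sum_sdiff_singleton_of_mem (Finset.mem_univ a₀), dif_neg (by simp [h0]), zero_add]
      have key : ∀ a ∈ (Finset.univ : Finset (Fin r)) \ {a₀},
          (if h : a ∉ T.1 then (sgn T.1 a : R) *
            (if h' : insert a T.1 ⊆ good ω z ∧ a₀ ∈ insert a T.1 then
              (sgn ((insert a T.1).erase a₀) a₀ : R) * f' ⟨(insert a T.1).erase a₀, by
                rw [Finset.card_erase_of_mem h'.2, Finset.card_insert_of_notMem h, T.2]; rfl⟩ z else 0)
            else 0) =
          -(sgn (T.1.erase a₀) a₀ : R) * (if h : a ∉ T.1.erase a₀ then (sgn (T.1.erase a₀) a : R) *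
            f' ⟨insert a (T.1.erase a₀), by
              rw [Finset.card_insert_of_notMem h, Finset.card_erase_of_mem h0, T.2]; rfl⟩ z else 0) := by
        intro a ha
        simp only [Finset.mem_sdiff, Finset.mem_univ, Finset.mem_singleton, true_and] at ha
        have hin : a ∈ T.1.erase a₀ ↔ a ∈ T.1 := by simp [ha]
        by_cases haT : a ∈ T.1
        · rw [dif_neg (not_not.2 haT), dif_neg (not_not.2 (hin.2 haT)), mul_zero]
        · rw [dif_pos haT, dif_pos (mt hin.1 haT)]
          by_cases hag : a ∈ good ω z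
          · rw [dif_pos ⟨Finset.insert_subset hag hT, Finset.mem_insert_of_mem h0⟩]
            simp only [Finset.erase_insert_of_ne ha]
            have hs := sgn_swap (R := R) ha (mt hin.1 haT) (Finset.notMem_erase a₀ T.1)
            rw [Finset.insert_erase h0] at hs
            have h1 := sgn_sq (R := R) (T.1.erase a₀) a₀
            have h1 := sgn_sq (R := R) (T.1.erase a₀) a
            have h2 := sgn_sq (R := R) T.1 a
            set W := f' ⟨insert a (T.1.erase a₀), by
              rw [Finset.card_insert_of_notMem (mt hin.1 haT), Finset.card_erase_of_mem h0, T.2]; rfl⟩ z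
            set s0 : R := ((sgn (T.1.erase a₀) a₀ : ℤ) : R)
            set sI : R := ((sgn (insert a (T.1.erase a₀)) a₀ : ℤ) : R)
            set sa : R := ((sgn (T.1.erase a₀) a : ℤ) : R)
            set sT : R := ((sgn T.1 a : ℤ) : R)
            linear_combination W * sT * sa * hs - W * sT * sI * h1 - W * s0 * sa * h2
          · rw [dif_neg (fun h => hag (h.1 (Finset.mem_insert_self _ _))), mul_zero,
              hout ⟨insert a (T.1.erase a₀), _⟩ (fun h => hag (h (Finset.mem_insert_self _ _))), mul_zero, mul_zero]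
      rw [Finset.sum_congr rfl key, ← Finset.mul_sum, eq_neg_of_add_eq_zero_right hco]
      rw [neg_mul_neg, ← mul_assoc, sgn_sq, one_mul]

theorem exact_main (c : ℕ) {f : Cochain F R (m := m) r (c + 1)} (hf : IsInduced ω f) (hd : delta c f = 0) :
    ∃ g : Cochain F R (m := m) r (c + 2), IsInduced ω g ∧ delta (c + 1) g = f := by
  obtain ⟨g, hg, h⟩ := exact_aux ω c ((m + 2) * ((m + 2) * (m + 1)) + 1) f hf hd
  exact ⟨g, hg, funext fun T => funext fun z => h T z (exists_bound z)⟩

end Groth.Agent.H23Par
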