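import Mathlib
import Groth.Prelude.Def_W4c3dlvarstrshPar

/-!
# Positions of flags in cosets of standard parabolic subgroups

For `g` in `GL_{m+1}` we record the dimensions of the intersections of the flag of `g` with the standard
flag.  In every coset of a standard parabolic subgroup there is exactly one flag for which these
dimensions are largest; it is characterised by a condition on each simple reflection separately.
-/

set_option autoImplicit false
universe u

open Matrix W4c3dlvarstrsh

namespace Groth.Agent.H23Par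

variable {F : Type u} [Field F] {m : ℕ}

local notation "N" => m + 1
local notation "G" => GL (Fin (m + 1)) F

variable (F m) in
/-- The standard flag. -/
def C (t : ℕ) : Submodule F (Fin N → F) where
  carrier := {x | ∀ i : Fin N, t ≤ i.val → x i = 0}
  add_mem' hx hy i hi := by simp [hx i hi, hy i hi]
  zero_mem' := by simp
  smul_mem' c x hx i hi := by simp [hx i hi]

theorem mem_C {t : ℕ} {x : Fin N → F} : x ∈ C F m t ↔ ∀ i : Fin N, t ≤ i.val → x i = 0 := Iff.rfl

theorem C_mono {s t : ℕ} (h : s ≤ t) : C F m s ≤ C F m t := fun _ hx i hi => hx i (h.trans hi)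

theorem C_top {t : ℕ} (h : N ≤ t) : C F m t = ⊤ :=
  eq_top_iff.2 fun x _ i hi => absurd (lt_of_lt_of_le i.2 h) (not_lt.2 hi)

theorem C_zero : C F m 0 = ⊥ :=
  eq_bot_iff.2 fun x hx => by
    rw [Submodule.mem_bot]
    funext i
    exact hx i (Nat.zero_le _)

theorem finrank_C {t : ℕ} (h : t ≤ N) : Module.finrank F (C F m t) = t := by
  let e : C F m t ≃ₗ[F] (Fin t → F) :=
    { toFun := fun x i => x.1 (Fin.castLE h i)
      map_add' := fun _ _ => rfl
      map_smul' := fun _ _ => rfl
      invFun := fun y => ⟨fun i => if hi : i.val < t then y ⟨i.val, hi⟩ else 0,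
        fun i hi => dif_neg (not_lt.2 hi)⟩
      left_inv := fun x => Subtype.ext <| funext fun i => by
        rcases lt_or_ge i.val t with hi | hi
        · simp [hi]
        · simp [not_lt.2 hi, x.2 i hi]
      right_inv := fun y => funext fun i => by simp }
  simp [e.finrank_eq]

/-- The linear map of a matrix. -/
def lin (g : G) : (Fin N → F) →ₗ[F] (Fin N → F) := (g : Matrix (Fin N) (Fin N) F).mulVecLin

theorem lin_mul (g h : G) : lin (g * h) = (lin g).comp (lin h) := by
  rw [lin, Units.val_mul, Matrix.mulVecLin_mul]; rfl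

theorem lin_injective (g : G) : Function.Injective (lin g) := by
  intro x y h
  have := congrArg (lin g⁻¹) h
  rwa [← LinearMap.comp_apply, ← LinearMap.comp_apply, ← lin_mul, inv_mul_cancel, lin, Units.val_one,
    Matrix.mulVecLin_one, LinearMap.id_apply, LinearMap.id_apply] at this

/-- The dimension of the intersection of the `t`-th member of the flag of `g` with the `a`-th member of
the standard flag. -/
noncomputable def d (g : G) (t a : ℕ) : ℕ := Module.finrank F ↥(C F m t ⊓ (C F m a).comap (lin g))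

theorem finrank_inf_C_succ (U : Submodule F (Fin N → F)) (a : ℕ) :
    Module.finrank F ↥(U ⊓ C F m (a + 1)) ≤ Module.finrank F ↥(U ⊓ C F m a) + 1 := by
  rcases le_or_gt N a with ha | ha
  · rw [C_top ha, C_top (ha.trans a.le_succ)]
    exact Nat.le_succ _
  let φ : ↥(U ⊓ C F m (a + 1)) →ₗ[F] F := (LinearMap.proj ⟨a, ha⟩).comp (Submodule.subtype _)
  have h1 := φ.finrank_range_add_finrank_ker
  have h2 : Module.finrank F (LinearMap.range φ) ≤ 1 :=
    (Submodule.finrank_le _).trans (Module.finrank_self F).le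
  have h3 : Module.finrank F (LinearMap.ker φ) ≤ Module.finrank F ↥(U ⊓ C F m a) := by
    rw [← Submodule.finrank_map_subtype_eq]
    refine Submodule.finrank_mono ?_
    rintro _ ⟨x, hx, rfl⟩
    refine ⟨x.2.1, fun i hi => ?_⟩
    rcases hi.eq_or_lt with h | h
    · have : x.1 ⟨a, ha⟩ = 0 := hx
      rwa [show (⟨a, ha⟩ : Fin N) = i from Fin.ext h] at this
    · exact x.2.2 i h
  omega

theorem map_inf_comap (g : G) (U V : Submodule F (Fin N → F)) :
    (U ⊓ V.comap (lin g)).map (lin g) = U.map (lin g) ⊓ V := by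
  ext y
  constructor
  · rintro ⟨x, ⟨hx, hy⟩, rfl⟩
    exact ⟨⟨x, hx, rfl⟩, hy⟩
  · rintro ⟨⟨x, hx, rfl⟩, hy⟩
    exact ⟨x, ⟨hx, hy⟩, rfl⟩

theorem d_eq_map (g : G) (t a : ℕ) :
    d g t a = Module.finrank F ↥((C F m t).map (lin g) ⊓ C F m a) := by
  have : (C F m t).map (lin g) ⊓ C F m a = (C F m t ⊓ (C F m a).comap (lin g)).map (lin g) := by
    ext y
    constructor
    · rintro ⟨⟨x, hx, rfl⟩, hy⟩
      exact ⟨x, ⟨hx, hy⟩, rfl⟩
    · rintro ⟨x, ⟨hx, hy⟩, rfl⟩
      exact ⟨⟨x, hx, rfl⟩, hy⟩
  rw [this, d]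
  exact (Submodule.equivMapOfInjective _ (lin_injective g) _).finrank_eq

theorem d_succ_right (g : G) (t a : ℕ) : d g t (a + 1) ≤ d g t a + 1 := by
  rw [d_eq_map, d_eq_map]; exact finrank_inf_C_succ _ _

theorem d_succ_left (g : G) (t a : ℕ) : d g (t + 1) a ≤ d g t a + 1 := by
  simp only [d]
  rw [inf_comm, inf_comm (C F m t)]
  exact finrank_inf_C_succ _ _

theorem d_mono (g : G) {s t a b : ℕ} (hst : s ≤ t) (hab : a ≤ b) : d g s a ≤ d g t b :=
  Submodule.finrank_mono (inf_le_inf (C_mono hst) (Submodule.comap_mono (C_mono hab)))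

theorem d_le (g : G) (t a : ℕ) : d g t a ≤ N :=
  (Submodule.finrank_le _).trans (by simp)

theorem d_zero_right (g : G) (t : ℕ) : d g t 0 = 0 := by
  rw [d_eq_map, C_zero, inf_bot_eq, finrank_bot]

theorem d_top_right (g : G) {t a : ℕ} (ha : N ≤ a) (ht : t ≤ N) : d g t a = t := by
  rw [d, C_top ha, Submodule.comap_top, inf_top_eq, finrank_C ht]

theorem d_add_le (g : G) {s t : ℕ} (h : s ≤ t) (a : ℕ) : d g t a ≤ d g s a + (t - s) := by
  induction t, h using Nat.le_induction with
  | base => simp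
  | succ t ht ih =>
    have := d_succ_left g t a
    omega

/-- The condition at a simple reflection: the positions increase. -/
def Step (g : G) (k : Fin m) : Prop :=
  ∀ a, d g (k.val + 1) a = d g k.val a → d g (k.val + 2) a = d g (k.val + 1) a

/-- A cut of the set `J`. -/
def IsCut (J : Finset (Fin m)) (t : ℕ) : Prop := t = 0 ∨ N ≤ t ∨ ∃ k : Fin m, k ∉ J ∧ k.val + 1 = t

theorem blockOf_lt {J : Finset (Fin m)} {i j : Fin N} :
    blockOf J j < blockOf J i ↔ ∃ k : Fin m, k ∉ J ∧ j.val ≤ k.val ∧ k.val < i.val := by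
  constructor
  · intro h
    by_contra hc
    push Not at hc
    refine absurd h (not_lt.2 (Finset.card_le_card fun k hk => ?_))
    simp only [Finset.mem_filter, Finset.mem_univ, true_and] at hk ⊢
    refine ⟨?_, hk.2⟩
    by_contra hkj
    exact absurd hk.1 (not_lt.2 (hc k hk.2 (not_lt.1 hkj)))
  · rintro ⟨k, hk, hjk, hki⟩
    refine Finset.card_lt_card ?_
    rw [Finset.ssubset_iff_of_subset]
    · exact ⟨k, by simp [hk, hki], by simp [hk, hjk]⟩
    · intro l hl
      simp only [Finset.mem_filter, Finset.mem_univ, true_and] at hl ⊢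
      exact ⟨by omega, hl.2⟩

theorem parabolic_mono {J J' : Finset (Fin m)} (h : J' ⊆ J) : parabolic F J' ≤ parabolic F J := by
  intro p hp i j hij
  refine hp ?_
  obtain ⟨k, hk, h1, h2⟩ := blockOf_lt.1 hij
  exact blockOf_lt.2 ⟨k, fun hk' => hk (h hk'), h1, h2⟩

theorem map_C_eq {J : Finset (Fin m)} {p : G} (hp : p ∈ parabolic F J) {t : ℕ} (ht : IsCut J t) :
    (C F m t).map (lin p) = C F m t := by
  refine Submodule.eq_of_le_of_finrank_eq ?_ (Submodule.equivMapOfInjective _ (lin_injective p) _).finrank_eq.symm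
  rintro _ ⟨x, hx, rfl⟩
  rcases ht with rfl | ht | ⟨k, hk, rfl⟩
  · rw [C_zero] at hx ⊢
    rw [SetLike.mem_coe, Submodule.mem_bot] at hx
    simp [hx]
  · rw [C_top ht]
    trivial
  · intro i hi
    rw [lin, Matrix.mulVecLin_apply]
    simp only [Matrix.mulVec, dotProduct]
    refine Finset.sum_eq_zero fun j _ => ?_
    rcases le_or_gt (k.val + 1) j.val with hj | hj
    · rw [hx j hj, mul_zero]
    · rw [hp (blockOf_lt.2 ⟨k, hk, Nat.le_of_lt_succ hj, hi⟩), zero_mul]

theorem mem_borel_of_map_eq {p : G} (h : ∀ t ≤ N, (C F m t).map (lin p) = C F m t) : p ∈ parabolic F ∅ := by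
  intro i j hij
  obtain ⟨k, -, hjk, hki⟩ := blockOf_lt.1 hij
  have hx : Pi.single j (1 : F) ∈ C F m (j.val + 1) := fun l hl =>
    Pi.single_eq_of_ne (M := fun _ => F) (fun h => by subst h; omega) 1
  have : lin p (Pi.single j (1 : F)) ∈ C F m (j.val + 1) := by
    rw [← h (j.val + 1) j.2]; exact Submodule.mem_map_of_mem hx
  have := this i (by omega)
  rw [lin, Matrix.mulVecLin_apply, Matrix.mulVec_single_one] at this
  exact this

theorem d_mul (g p : G) {t a : ℕ} (h : (C F m t).map (lin p) = C F m t) : d (g * p) t a = d g t a := by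
  rw [d_eq_map, d_eq_map, lin_mul, Submodule.map_comp, h]

/-- The defect of a flag. -/
noncomputable def ν (g : G) : ℕ :=
  ∑ t ∈ Finset.range (N + 1), ∑ a ∈ Finset.range (N + 1), (N - d g t a)

theorem ν_le {g h : G} (hd : ∀ t ≤ N, ∀ a ≤ N, d g t a ≤ d h t a) :
    ν h ≤ ν g ∧ (ν h = ν g → ∀ t ≤ N, ∀ a ≤ N, d g t a = d h t a) := by
  have hle : ∀ t ∈ Finset.range (N + 1),
      ∑ a ∈ Finset.range (N + 1), (N - d h t a) ≤ ∑ a ∈ Finset.range (N + 1), (N - d g t a) :=
    fun t ht => Finset.sum_le_sum fun a ha => Nat.sub_le_sub_left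
      (hd t (Nat.lt_succ_iff.1 (Finset.mem_range.1 ht)) a (Nat.lt_succ_iff.1 (Finset.mem_range.1 ha))) _
  refine ⟨Finset.sum_le_sum hle, fun heq t ht a ha => ?_⟩
  have h1 := (Finset.sum_eq_sum_iff_of_le hle).1 heq t (Finset.mem_range.2 (by omega))
  have h2 := (Finset.sum_eq_sum_iff_of_le (fun a ha => Nat.sub_le_sub_left
    (hd t ht a (Nat.lt_succ_iff.1 (Finset.mem_range.1 ha))) _)).1 h1 a (Finset.mem_range.2 (by omega))
  have := hd t ht a ha
  have := d_le h t a
  omega

theorem ν_eq_of_borel {g b : G} (hb : b ∈ parabolic F (∅ : Finset (Fin m))) :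
    ν (g * b) = ν g ∧ ∀ k, Step (g * b) k ↔ Step g k := by
  have hd : ∀ t a, d (g * b) t a = d g t a := fun t a => d_mul g b (map_C_eq hb (by
    rcases Nat.eq_zero_or_pos t with rfl | h
    · exact Or.inl rfl
    rcases le_or_gt N t with h' | h'
    · exact Or.inr (Or.inl h')
    · exact Or.inr (Or.inr ⟨⟨t - 1, by omega⟩, Finset.notMem_empty _, Nat.succ_pred_eq_of_pos h⟩)))
  exact ⟨by simp only [ν, hd], fun k => by simp only [Step, hd]⟩

/-- A failure of the condition at `k` can be improved inside the coset of the parabolic of `k`. -/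
theorem exists_lt_of_not_step {g : G} {k : Fin m} (hk : ¬ Step g k) :
    ∃ p ∈ parabolic F ({k} : Finset (Fin m)), ν (g * p) < ν g := by
  classical
  simp only [Step, not_forall] at hk
  obtain ⟨a, ha, ha'⟩ := hk
  have hlt : d g (k.val + 1) a < d g (k.val + 2) a :=
    lt_of_le_of_ne (d_mono g (by omega) le_rfl) (Ne.symm ha')
  have haN : a < N := by
    by_contra h
    rw [d_top_right g (not_lt.1 h) (by omega), d_top_right g (not_lt.1 h) (by omega)] at ha
    omega
  obtain ⟨w, hw, hw'⟩ := SetLike.exists_of_lt (lt_of_le_of_ne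
    (inf_le_inf (C_mono (F := F) (m := m) (by omega : k.val + 1 ≤ k.val + 2)) (le_refl ((C F m a).comap (lin g))))
    (fun h => by
      have : d g (k.val + 1) a = d g (k.val + 2) a := by rw [d, d, h]
      omega))
  have hwC : w ∉ C F m (k.val + 1) := fun h => hw' ⟨h, hw.2⟩
  let i₀ : Fin N := k.castSucc
  let i₁ : Fin N := k.succ
  have hw1 : w i₁ ≠ 0 := by
    intro h0
    refine hwC fun i hi => ?_
    rcases hi.eq_or_lt with h | h
    · rwa [show i₁ = i from Fin.ext (by simpa [i₁] using h)] at h0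
    · exact hw.1 i h
  have hi01 : i₀ ≠ i₁ := fun h => absurd (congrArg Fin.val h) (by simp [i₀, i₁])
  let M : Matrix (Fin N) (Fin N) F :=
    ((1 : Matrix (Fin N) (Fin N) F).updateCol i₀ w).updateCol i₁ (Pi.single i₀ 1)
  have hMx : ∀ x i, (M *ᵥ x) i =
      x i₀ * w i + (if i = i₀ then x i₁ else 0) + (if i = i₀ ∨ i = i₁ then 0 else x i) := by
    intro x i
    rw [Matrix.mulVec, dotProduct, ← Finset.sum_erase_add _ _ (Finset.mem_univ i₁),
      ← Finset.sum_erase_add _ _ (Finset.mem_erase.2 ⟨hi01, Finset.mem_univ i₀⟩)]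
    have h0 : M i i₀ = w i := by simp [M, hi01]
    have h1 : M i i₁ = if i = i₀ then 1 else 0 := by simp [M, Pi.single_apply]
    have hrest : ∀ j ∈ (Finset.univ.erase i₁).erase i₀, M i j * x j = if i = j then x i else 0 := by
      intro j hj
      simp only [Finset.mem_erase] at hj
      simp only [M, Matrix.updateCol_ne hj.1, Matrix.updateCol_ne hj.2.1, Matrix.one_apply]
      split_ifs with h
      · rw [one_mul, h]
      · rw [zero_mul]
    rw [Finset.sum_congr rfl hrest, Finset.sum_ite_eq, h0, h1]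
    simp only [Finset.mem_erase, Finset.mem_univ, and_true]
    split_ifs <;> simp_all [mul_comm] <;> ring
  have hinj : Function.Injective M.mulVec := by
    intro x y hxy
    rw [← sub_eq_zero]
    have h : M *ᵥ (x - y) = 0 := by rw [Matrix.mulVec_sub, hxy, sub_self]
    generalize x - y = z at h ⊢
    have hz : ∀ i, z i₀ * w i + (if i = i₀ then z i₁ else 0) + (if i = i₀ ∨ i = i₁ then 0 else z i) = 0 :=
      fun i => by rw [← hMx]; exact congrFun h i
    have hz0 : z i₀ = 0 := by
      have := hz i₁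
      simpa [hi01.symm, hw1] using this
    funext i
    have := hz i
    rcases eq_or_ne i i₀ with rfl | h0
    · exact hz0
    · rcases eq_or_ne i i₁ with rfl | h1
      · simpa [hz0] using hz i₀
      · simpa [hz0, h0, h1] using this
  let p : G := (Matrix.mulVec_injective_iff_isUnit.1 hinj).unit
  have hpM : (p : Matrix (Fin N) (Fin N) F) = M := IsUnit.unit_spec _
  have hp : p ∈ parabolic F ({k} : Finset (Fin m)) := by
    show (p : Matrix (Fin N) (Fin N) F).BlockTriangular (blockOf {k})
    intro i j hij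
    obtain ⟨l, hl, hjl, hli⟩ := blockOf_lt.1 hij
    have hlk : l.val ≠ k.val := fun h => hl (by simp [Fin.ext h])
    rw [hpM]
    simp only [M, Matrix.updateCol_apply, Matrix.one_apply]
    have hv0 : i₀.val = k.val := rfl
    have hv1 : i₁.val = k.val + 1 := by simp [i₁]
    split_ifs with h1 h0 h
    · exact Pi.single_eq_of_ne (fun h => by subst h; have := congrArg Fin.val h1; omega) _
    · exact hw.1 i (by have := congrArg Fin.val h0; omega)
    · subst h; omega
    · rfl
  refine ⟨p, hp, ?_⟩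
  have hcut : ∀ t, t ≠ k.val + 1 → IsCut ({k} : Finset (Fin m)) t := fun t ht => by
    rcases Nat.eq_zero_or_pos t with rfl | h
    · exact Or.inl rfl
    rcases le_or_gt N t with h' | h'
    · exact Or.inr (Or.inl h')
    · refine Or.inr (Or.inr ⟨⟨t - 1, by omega⟩, ?_, Nat.succ_pred_eq_of_pos h⟩)
      simp [Fin.ext_iff]
      omega
  have hW0 : C F m k.val ≤ (C F m (k.val + 1)).map (lin p) := by
    rw [← map_C_eq hp (hcut k.val (by omega))]
    exact Submodule.map_mono (C_mono (by omega))
  have hW1 : w ∈ (C F m (k.val + 1)).map (lin p) := by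
    refine ⟨Pi.single i₀ 1, fun l hl => Pi.single_eq_of_ne (fun h => by subst h; simp [i₀] at hl) _, ?_⟩
    funext i
    rw [lin, hpM, Matrix.mulVecLin_apply, hMx]
    rcases eq_or_ne i i₀ with rfl | h0
    · simp [hi01.symm]
    · simp [hi01.symm, h0]
  have hdp : ∀ b, d (g * p) (k.val + 1) b =
      Module.finrank F ↥((C F m (k.val + 1)).map (lin p) ⊓ (C F m b).comap (lin g)) := by
    intro b
    rw [d, lin_mul, Submodule.comap_comp]
    rw [(Submodule.equivMapOfInjective _ (lin_injective p) _).finrank_eq, map_inf_comap]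
  have hwk : ∀ b, a ≤ b → d g k.val b + 1 ≤ d (g * p) (k.val + 1) b := by
    intro b hb
    rw [hdp b]
    have hlt' : C F m k.val ⊓ (C F m b).comap (lin g) < (C F m (k.val + 1)).map (lin p) ⊓ (C F m b).comap (lin g) :=
      SetLike.lt_iff_le_and_exists.2 ⟨inf_le_inf hW0 le_rfl, w, Submodule.mem_inf.2 ⟨hW1, C_mono hb hw.2⟩,
        fun h => hwC (C_mono (Nat.le_succ _) (Submodule.mem_inf.1 h).1)⟩
    exact Submodule.finrank_lt_finrank_of_lt hlt'
  have hge : ∀ t ≤ N, ∀ b ≤ N, d g t b ≤ d (g * p) t b := by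
    intro t _ b _
    rcases ne_or_eq t (k.val + 1) with ht | rfl
    · rw [d_mul g p (map_C_eq hp (hcut t ht))]
    · rcases le_or_gt a b with hab | hab
      · exact (d_succ_left g _ _).trans (hwk b hab)
      · have h2 : d g (k.val + 1) b ≤ d g k.val b := by
          refine Submodule.finrank_mono fun x hx => ⟨?_, hx.2⟩
          have heq : C F m k.val ⊓ (C F m a).comap (lin g) = C F m (k.val + 1) ⊓ (C F m a).comap (lin g) :=
            Submodule.eq_of_le_of_finrank_eq (inf_le_inf (C_mono (by omega)) le_rfl) ha.symm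
          have hx' : x ∈ C F m (k.val + 1) ⊓ (C F m a).comap (lin g) := ⟨hx.1, C_mono hab.le hx.2⟩
          exact (heq ▸ hx' : x ∈ C F m k.val ⊓ (C F m a).comap (lin g)).1
        refine h2.trans ?_
        rw [hdp b]
        exact Submodule.finrank_mono (inf_le_inf hW0 le_rfl)
  obtain ⟨h1, h2⟩ := ν_le hge
  refine lt_of_le_of_ne h1 fun h => ?_
  have h3 := h2 h (k.val + 1) (by omega) a (by omega)
  have := hwk a le_rfl
  omega

/-- Largest cut below and least cut above. -/
theorem exists_block (J : Finset (Fin m)) {t : ℕ} (ht : t ≤ N) :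
    ∃ p q, p ≤ t ∧ t ≤ q ∧ q ≤ N ∧ IsCut J p ∧ IsCut J q ∧
      ∀ k : Fin m, p < k.val + 1 → k.val + 1 < q → k ∈ J := by
  classical
  let S := (Finset.range (t + 1)).filter (IsCut J)
  have hS : S.Nonempty := ⟨0, by simp [S, IsCut]⟩
  let T := (Finset.Icc t N).filter (IsCut J)
  have hT : T.Nonempty := ⟨N, by simp [T, IsCut, ht]⟩
  have hp := S.max'_mem hS
  have hq := T.min'_mem hT
  simp only [S, Finset.mem_filter, Finset.mem_range] at hp
  simp only [T, Finset.mem_filter, Finset.mem_Icc] at hq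
  refine ⟨S.max' hS, T.min' hT, Nat.lt_succ_iff.1 hp.1, hq.1.1, hq.1.2, hp.2, hq.2, fun k h1 h2 => ?_⟩
  by_contra hk
  have hc : IsCut J (k.val + 1) := Or.inr (Or.inr ⟨k, hk, rfl⟩)
  rcases le_or_gt (k.val + 1) t with h | h
  · exact absurd (S.le_max' _ (Finset.mem_filter.2 ⟨Finset.mem_range.2 (by omega), hc⟩)) (not_le.2 h1)
  · exact absurd (T.min'_le _ (Finset.mem_filter.2 ⟨Finset.mem_Icc.2 ⟨h.le, by omega⟩, hc⟩)) (not_le.2 h2)

theorem step_formula {g : G} {J : Finset (Fin m)} (hg : ∀ k ∈ J, Step g k) {p t q : ℕ} (hpt : p ≤ t)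
    (htq : t ≤ q) (hq : q ≤ N) (hJ : ∀ k : Fin m, p < k.val + 1 → k.val + 1 < q → k ∈ J) (a : ℕ) :
    d g t a = d g p a + (t - p) ∨ d g t a = d g q a := by
  by_cases hall : ∀ s, p ≤ s → s < t → d g (s + 1) a ≠ d g s a
  · left
    induction t, hpt using Nat.le_induction with
    | base => simp
    | succ t ht ih =>
      have h1 := ih (by omega) (fun s hs hs' => hall s hs (by omega))
      have h2 := d_succ_left g t a
      have h3 : d g t a ≤ d g (t + 1) a := d_mono g t.le_succ le_rfl
      have h4 := hall t ht (Nat.lt_succ_self t)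
      omega
  · right
    push Not at hall
    obtain ⟨s, hs, hst, heq⟩ := hall
    have hprop : ∀ u, s + 1 ≤ u → u ≤ q → d g u a = d g s a := by
      intro u hu
      induction u, hu using Nat.le_induction with
      | base => exact fun _ => heq
      | succ u hu ih =>
        intro huq
        have hprev : d g (u - 1 + 1) a = d g (u - 1) a := by
          rw [Nat.sub_add_cancel (by omega : 1 ≤ u), ih (by omega)]
          rcases hu.eq_or_lt with h | h
          · rw [← h, Nat.add_sub_cancel]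
          · have h1 : d g s a ≤ d g (u - 1) a := d_mono g (by omega) le_rfl
            have h2 : d g (u - 1) a ≤ d g u a := d_mono g (Nat.sub_le u 1) le_rfl
            have h3 := ih (by omega)
            omega
        let k : Fin m := ⟨u - 1, by omega⟩
        have hk := hg k (hJ k (by simp [k]; omega) (by simp [k]; omega)) a hprev
        simp only [k] at hk
        rw [show u - 1 + 2 = u + 1 by omega, show u - 1 + 1 = u by omega] at hk
        rw [hk, ih (by omega)]
    rw [hprop t hst htq, hprop q (by omega) le_rfl]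

/-- The characterisation of the best flag in a coset. -/
theorem minimal_of_steps {g : G} {J : Finset (Fin m)} (hg : ∀ k ∈ J, Step g k) {p : G}
    (hp : p ∈ parabolic F J) : ν g ≤ ν (g * p) ∧ (ν g = ν (g * p) → p ∈ parabolic F (∅ : Finset (Fin m))) := by
  have hle : ∀ t ≤ N, ∀ a ≤ N, d (g * p) t a ≤ d g t a := by
    intro t ht a _
    obtain ⟨p₀, q₀, h1, h2, h3, hc1, hc2, hJ⟩ := exists_block J ht
    rcases step_formula hg h1 h2 h3 hJ a with h | h
    · rw [h, ← d_mul g p (map_C_eq hp hc1)]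
      exact d_add_le _ h1 a
    · rw [h, ← d_mul g p (map_C_eq hp hc2)]
      exact d_mono _ h2 le_rfl
  obtain ⟨h1, h2⟩ := ν_le hle
  refine ⟨h1, fun heq => mem_borel_of_map_eq fun t ht => ?_⟩
  obtain ⟨p₀, q₀, hp0, hq0, hqN, hc1, hc2, hJ⟩ := exists_block J ht
  -- a member of the standard flag cutting out exactly the `t`-th step
  have hex : ∃ a ≤ N, d g q₀ a = d g p₀ a + (t - p₀) := by
    have hN : d g p₀ N + (t - p₀) ≤ d g q₀ N := by
      rw [d_top_right g le_rfl (by omega), d_top_right g le_rfl hqN]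
      omega
    have hfind : ∃ a, d g p₀ a + (t - p₀) ≤ d g q₀ a := ⟨N, hN⟩
    refine ⟨Nat.find hfind, Nat.find_min' hfind hN, le_antisymm ?_ (Nat.find_spec hfind)⟩
    rcases h : Nat.find hfind with - | b
    · simp [d_zero_right]
    · have hb := Nat.find_min hfind (m := b) (by omega)
      have := d_succ_right g q₀ b
      have : d g p₀ b ≤ d g p₀ (b + 1) := d_mono g le_rfl b.le_succ
      omega
  obtain ⟨a, ha, hda⟩ := hex
  have hdt : d g t a = d g q₀ a := by
    rcases step_formula hg hp0 hq0 hqN hJ a with h | h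
    · omega
    · exact h
  set E := (C F m a).comap (lin g)
  set U := C F m p₀ ⊔ (C F m q₀ ⊓ E)
  have hUrank : Module.finrank F U = t := by
    have h := Submodule.finrank_sup_add_finrank_inf_eq (C F m p₀) (C F m q₀ ⊓ E)
    rw [show C F m p₀ ⊓ (C F m q₀ ⊓ E) = C F m p₀ ⊓ E by
      rw [← inf_assoc, inf_eq_left.2 (C_mono (hp0.trans hq0))], finrank_C (by omega)] at h
    simp only [d] at hda
    simp only [U, E] at *
    omega
  have hU : ∀ W : Submodule F (Fin N → F), C F m p₀ ≤ W → W ≤ C F m q₀ → Module.finrank F W = t →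
      Module.finrank F ↥(W ⊓ E) = d g q₀ a → W = U := by
    intro W hW1 hW2 hW3 hW4
    have : W ⊓ E = C F m q₀ ⊓ E := Submodule.eq_of_le_of_finrank_eq (inf_le_inf hW2 le_rfl) hW4
    exact (Submodule.eq_of_le_of_finrank_eq (sup_le hW1 (this ▸ inf_le_left)) (hUrank.trans hW3.symm)).symm
  refine (hU ((C F m t).map (lin p)) ?_ ?_ ?_ ?_).trans (hU (C F m t) (C_mono hp0) (C_mono hq0) (finrank_C ht) hdt).symm
  · rw [← map_C_eq hp hc1]; exact Submodule.map_mono (C_mono hp0)
  · rw [← map_C_eq hp hc2]; exact Submodule.map_mono (C_mono hq0)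
  · rw [← (Submodule.equivMapOfInjective _ (lin_injective p) _).finrank_eq, finrank_C ht]
  · rw [← hdt, ← h2 heq t ht a ha, d, lin_mul, Submodule.comap_comp,
      (Submodule.equivMapOfInjective _ (lin_injective p) (C F m t ⊓ _)).finrank_eq, map_inf_comap]

variable [Fintype F]

theorem exists_best (g : G) (J : Finset (Fin m)) :
    ∃ p ∈ parabolic F J, ∀ k ∈ J, Step (g * p) k := by
  classical
  obtain ⟨p, hp, hmin⟩ := Set.exists_min_image (parabolic F J : Set G) (fun p => ν (g * p)) (Set.toFinite _)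
    ⟨1, one_mem _⟩
  refine ⟨p, hp, fun k hk => ?_⟩
  by_contra hs
  obtain ⟨p', hp', hlt⟩ := exists_lt_of_not_step hs
  have := hmin (p * p') (mul_mem hp (parabolic_mono (Finset.singleton_subset_iff.2 hk) hp'))
  simp only [← mul_assoc] at this
  omega

/-- The best element in the coset. -/
noncomputable def κ (J : Finset (Fin m)) (g : G) : G := g * (exists_best g J).choose

theorem κ_step (J : Finset (Fin m)) (g : G) : ∀ k ∈ J, Step (κ J g) k := (exists_best g J).choose_spec.2

theorem κ_mem (J : Finset (Fin m)) (g : G) : g⁻¹ * κ J g ∈ parabolic F J := by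
  simpa [κ] using (exists_best g J).choose_spec.1

theorem κ_le (J : Finset (Fin m)) (g : G) : ν (κ J g) ≤ ν g := by
  have h := (minimal_of_steps (κ_step J g) (inv_mem (κ_mem J g))).1
  simpa [_root_.mul_inv_rev] using h

theorem κ_congr (J : Finset (Fin m)) (g : G) {p : G} (hp : p ∈ parabolic F J) :
    (κ J g)⁻¹ * κ J (g * p) ∈ parabolic F (∅ : Finset (Fin m)) := by
  have hr : (κ J g)⁻¹ * κ J (g * p) ∈ parabolic F J := by
    have := mul_mem (mul_mem (inv_mem (κ_mem J g)) hp) (κ_mem J (g * p))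
    simpa [_root_.mul_inv_rev, mul_assoc] using this
  obtain ⟨h1, h2⟩ := minimal_of_steps (κ_step J g) hr
  have h3 := (minimal_of_steps (κ_step J (g * p)) (inv_mem hr)).1
  rw [mul_inv_cancel_left] at h1 h2
  rw [show κ J (g * p) * ((κ J g)⁻¹ * κ J (g * p))⁻¹ = κ J g by simp [_root_.mul_inv_rev]] at h3
  exact h2 (le_antisymm h1 h3)

theorem κ_of_steps {J : Finset (Fin m)} {g : G} (hg : ∀ k ∈ J, Step g k) :
    g⁻¹ * κ J g ∈ parabolic F (∅ : Finset (Fin m)) := by
  obtain ⟨h1, h2⟩ := minimal_of_steps hg (κ_mem J g)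
  rw [mul_inv_cancel_left] at h1 h2
  exact h2 (le_antisymm h1 (κ_le J g))

theorem κ_lt {J : Finset (Fin m)} {g : G} (hg : ¬ ∀ k ∈ J, Step g k) : ν (κ J g) < ν g := by
  refine lt_of_le_of_ne (κ_le J g) fun h => hg fun k hk => ?_
  have hp := κ_mem J g
  obtain ⟨-, h2⟩ := minimal_of_steps (κ_step J g) (inv_mem hp)
  rw [show κ J g * (g⁻¹ * κ J g)⁻¹ = g by simp [_root_.mul_inv_rev]] at h2
  have hb := inv_mem (h2 h)
  rw [inv_inv] at hb
  have := ((ν_eq_of_borel (g := g) hb).2 k).1
  rw [mul_inv_cancel_left] at this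
  exact this (κ_step J g k hk)

end Groth.Agent.H23Par
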